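import Groth.Agent.QCoh.CechComparison
import Groth.Agent.QCoh.DevissageSum
import Groth.Agent.QCoh.Tilde
import Groth.Agent.QCoh.Support
import Groth.Agent.QCoh.Sections
import Groth.Agent.QCoh.LocFree
import Groth.Agent.ParaFX.Closed
import Groth.Agent.KFlatLib.Scheme.LocalDevissage
import Groth.Agent.S10848
import Mathlib

/-!
# Cohomology of quasi-coherent modules from coherent ones
-/

set_option autoImplicit false
set_option linter.style.haveILetI false
set_option backward.isDefEq.respectTransparency false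
set_option backward.isDefEq.respectTransparency.types false

universe u

open CategoryTheory CategoryTheory.Limits AlgebraicGeometry TopologicalSpace Opposite

namespace Groth.Agent.CohLimX

attribute [local instance] Abelian.hasFiniteBiproducts

variable {X : Scheme.{u}} [IsNoetherian X] {G : X.Modules}

omit [AlgebraicGeometry.IsNoetherian X] in
theorem mem_range_of_factor {F : X.Modules} {V : X.Opens} (hW : V.ι ''ᵁ ⊤ = V) (s : Γ(G, V)) (j : F ⟶ G)
    (b : Coh.structureModule (V : Scheme.{u}) ⟶ F.restrict V.ι)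
    (hb : b ≫ (Scheme.Modules.restrictFunctor V.ι).map j =
      (ParaFX.homSectionsEquiv (G.restrict V.ι)).symm (G.presheaf.map (homOfLE hW.le).op s)) :
    s ∈ Set.range (j.app V) := by
  have h : j.app (V.ι ''ᵁ ⊤) (ParaFX.homSectionsEquiv (F.restrict V.ι) b) = G.presheaf.map (homOfLE hW.le).op s :=
    (ParaFX.homSectionsEquiv_comp b ((Scheme.Modules.restrictFunctor V.ι).map j)).symm.trans
      ((congrArg (ParaFX.homSectionsEquiv (G.restrict V.ι)) hb).trans (Equiv.apply_symm_apply _ _))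
  refine ⟨F.presheaf.map (homOfLE hW.ge).op (ParaFX.homSectionsEquiv (F.restrict V.ι) b), ?_⟩
  refine (ConcreteCategory.congr_hom (j.mapPresheaf.naturality (homOfLE hW.ge).op)
    (ParaFX.homSectionsEquiv (F.restrict V.ι) b)).trans ?_
  refine (congrArg (G.presheaf.map (homOfLE hW.ge).op) h).trans ?_
  exact (QCoh.map_map _ _ s).trans (ConcreteCategory.congr_hom (G.presheaf.map_id (op V)) s)

/-- A section over an affine open lies in a coherent submodule. -/
theorem exists_coh_mono_of_section (hG : Coh.IsQCoh G) (V : X.Opens) (hV : IsAffineOpen V) (s : Γ(G, V)) :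
    ∃ (F : X.Modules) (j : F ⟶ G), Coh.IsCoh F ∧ s ∈ Set.range (j.app V) := by
  haveI : Coh.IsQCoh G := hG
  haveI : IsNoetherian (V : Scheme.{u}) :=
    { toIsLocallyNoetherian := isLocallyNoetherian_of_isOpenImmersion V.ι
      toCompactSpace := isCompact_iff_compactSpace.1 hV.isCompact }
  have hW : V.ι ''ᵁ ⊤ = V := V.ι_image_top
  let s' : Γ(G, V.ι ''ᵁ ⊤) := G.presheaf.map (homOfLE hW.le).op s
  let φ : Coh.structureModule (V : Scheme.{u}) ⟶ G.restrict V.ι := (ParaFX.homSectionsEquiv (G.restrict V.ι)).symm s'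
  have hGV : Coh.IsQCoh (G.restrict V.ι) := QCoh.isQCoh_restrict V.ι hG
  have hF' : Coh.IsCoh (Abelian.coimage φ) :=
    QCoh.isCoh_cokernel (QCoh.isQCoh_kernel QCoh.isQCoh_structureModule hGV φ) QCoh.isCoh_structureModule' (kernel.ι φ)
  haveI : Coh.IsQCoh (Abelian.coimage φ) := hF'.1
  obtain ⟨F, j, e, -, hq, hft, he⟩ := S10848.result V hV.isCompact G (Abelian.coimage φ)
    hF'.2 (Abelian.factorThruCoimage φ)
  exact ⟨F, j, ⟨hq, hft⟩, mem_range_of_factor hW s j (cokernel.π (kernel.ι φ) ≫ e.inv)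
    ((Category.assoc _ _ _).trans ((congrArg (cokernel.π (kernel.ι φ) ≫ ·) ((Iso.inv_comp_eq e).2 he.symm)).trans
      (cokernel.π_desc _ _ _)))⟩

/-- Finitely many sections over affine opens lie in a coherent submodule. -/
theorem exists_coh_mono_of_sections (hG : Coh.IsQCoh G) {κ : Type u} [Finite κ] (V : κ → X.Opens)
    (hV : ∀ k, IsAffineOpen (V k)) (s : ∀ k, Γ(G, V k)) :
    ∃ (F : X.Modules) (j : F ⟶ G), Mono j ∧ Coh.IsCoh F ∧ ∀ k, s k ∈ Set.range (j.app (V k)) := by
  haveI := Fintype.ofFinite κ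
  choose F j hF t ht using fun k => exists_coh_mono_of_section hG (V k) (hV k) (s k)
  let q : ⨁ F ⟶ G := biproduct.desc j
  have hB : Coh.IsCoh (⨁ F) := QCoh.isCoh_biproduct F hF
  have hF₀ : Coh.IsCoh (Abelian.coimage q) := QCoh.isCoh_cokernel (QCoh.isQCoh_kernel hB.1 hG q) hB (kernel.ι q)
  refine ⟨Abelian.coimage q, Abelian.factorThruCoimage q, inferInstance, hF₀, fun k =>
    ⟨(biproduct.ι F k ≫ cokernel.π (kernel.ι q)).app (V k) (t k), ?_⟩⟩
  refine Eq.trans ?_ (ht k)
  show ((biproduct.ι F k ≫ cokernel.π (kernel.ι q)) ≫ Abelian.factorThruCoimage q).app (V k) (t k) = _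
  simp [q, Abelian.factorThruCoimage]

/-- Exactness of the Čech complex passes from coherent submodules to the module. -/
theorem exists_boundary (hG : Coh.IsQCoh G) {ι : Type u} [Finite ι] (U : ι → X.Opens)
    (hU : ∀ {p : ℕ} (σ : Fin (p + 1) → ι), IsAffineOpen (⨅ a, U (σ a))) (p : ℕ)
    (hF : ∀ F : X.Modules, Coh.IsCoh F → ∀ c : QCoh.Ab.Cochain F.presheaf U (p + 2), QCoh.Ab.IsNatural c →
      QCoh.Ab.d c = 0 → ∃ b : QCoh.Ab.Cochain F.presheaf U (p + 1), QCoh.Ab.IsNatural b ∧ QCoh.Ab.d b = c)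
    (c : QCoh.Ab.Cochain G.presheaf U (p + 2)) (hc : QCoh.Ab.IsNatural c) (hd : QCoh.Ab.d c = 0) :
    ∃ b : QCoh.Ab.Cochain G.presheaf U (p + 1), QCoh.Ab.IsNatural b ∧ QCoh.Ab.d b = c := by
  have hle : ∀ σ : Fin (p + 2) → ι, QCoh.Ab.Le U σ (⨅ a, U (σ a)) := fun σ a => iInf_le _ a
  obtain ⟨F, j, hj, hFc, hs⟩ := exists_coh_mono_of_sections hG (κ := ULift.{u} (Fin (p + 2) → ι))
    (fun σ => ⨅ a, U (σ.down a)) (fun σ => hU σ.down) (fun σ => c σ.down ⟨_, hle σ.down⟩)
  haveI := hj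
  choose t ht using hs
  let c' : QCoh.Ab.Cochain F.presheaf U (p + 2) := fun σ W =>
    F.presheaf.map (homOfLE (le_iInf W.2)).op (t ⟨σ⟩)
  have hc' : QCoh.Ab.IsNatural c' := fun σ W W' h h' i => by
    show F.presheaf.map i.op (F.presheaf.map _ (t ⟨σ⟩)) = _
    exact QCoh.map_map _ _ _
  have hval : ∀ (σ : Fin (p + 2) → ι) (W : {W : X.Opens // QCoh.Ab.Le U σ W}), j.app W.1 (c' σ W) = c σ W :=
    fun σ W => by
      refine ((ConcreteCategory.congr_hom (j.mapPresheaf.naturality (homOfLE (le_iInf W.2)).op) (t ⟨σ⟩)).trans ?_)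
      exact (congrArg (G.presheaf.map (homOfLE (le_iInf W.2)).op) (ht ⟨σ⟩)).trans (hc σ _ W.1 (hle σ) W.2 _)
  have hdd : ∀ {q : ℕ} (e : QCoh.Ab.Cochain F.presheaf U q) (σ : Fin (q + 1) → ι)
      (W : {W : X.Opens // QCoh.Ab.Le U σ W}), j.app W.1 (QCoh.Ab.d e σ W) =
        QCoh.Ab.d (fun τ V => j.app V.1 (e τ V) : QCoh.Ab.Cochain G.presheaf U q) σ W := fun e σ W => by
    simp only [QCoh.Ab.d, map_sum, map_zsmul]
  have hd' : QCoh.Ab.d c' = 0 := funext fun σ => funext fun W => QCoh.app_injective j W.1 <| by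
    refine (hdd c' σ W).trans ?_
    rw [show (fun τ V => j.app V.1 (c' τ V) : QCoh.Ab.Cochain G.presheaf U (p + 2)) = c from
      funext fun τ => funext fun V => hval τ V, hd]
    exact (map_zero _).symm
  obtain ⟨b', hb', hdb⟩ := hF F hFc c' hc' hd'
  refine ⟨fun τ V => j.app V.1 (b' τ V), fun σ W W' h h' i => ?_, funext fun σ => funext fun W => ?_⟩
  · refine ((ConcreteCategory.congr_hom (j.mapPresheaf.naturality i.op) (b' σ ⟨W, h⟩)).symm).trans ?_
    exact congrArg (j.app W') (hb' σ W W' h h' i)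
  · rw [← hdd, hdb]
    exact hval σ W

end Groth.Agent.CohLimX
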